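import Mathlib
import Cfsg.Agent.H511.Wt.Dser
set_option linter.all false

/-!
# Irreducible actions and systems of imprimitivity
-/

set_option autoImplicit false

namespace Cfsg.Agent.H511.Wt

open scoped Pointwise

section decomp

variable {V Ω : Type*} [AddCommGroup V] [Fintype Ω]

theorem exists_sum {W : Ω → AddSubgroup V} (h : ⨆ i, W i = ⊤) (x : V) :
    ∃ f : Ω → V, (∀ i, f i ∈ W i) ∧ ∑ i, f i = x := by
  classical
  let T : AddSubgroup V :=
    { carrier := {x | ∃ f : Ω → V, (∀ i, f i ∈ W i) ∧ ∑ i, f i = x}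
      add_mem' := by
        rintro _ _ ⟨f, hf, rfl⟩ ⟨g, hg, rfl⟩
        exact ⟨fun i => f i + g i, fun i => (W i).add_mem (hf i) (hg i), Finset.sum_add_distrib⟩
      zero_mem' := ⟨fun _ => 0, fun i => (W i).zero_mem, Finset.sum_const_zero⟩
      neg_mem' := by
        rintro _ ⟨f, hf, rfl⟩
        exact ⟨fun i => - f i, fun i => (W i).neg_mem (hf i), by rw [Finset.sum_neg_distrib]⟩ }
  have h1 : ∀ i, W i ≤ T := by
    intro i y hy
    refine ⟨Pi.single i y, fun j => ?_, ?_⟩
    · by_cases hj : j = i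
      · subst hj; rw [Pi.single_eq_same]; exact hy
      · rw [Pi.single_eq_of_ne hj]; exact (W j).zero_mem
    · rw [Finset.sum_pi_single']
      simp
  have h2 : (⊤ : AddSubgroup V) ≤ T := by
    rw [← h]
    exact iSup_le h1
  exact h2 (AddSubgroup.mem_top x)

theorem sum_unique {W : Ω → AddSubgroup V} (h : iSupIndep W) {f : Ω → V} (hf : ∀ i, f i ∈ W i)
    (h0 : ∑ i, f i = 0) (i : Ω) : f i = 0 := by
  have h1 : iSupIndep (AddSubgroup.toIntSubmodule ∘ W) := (iSupIndep_map_orderIso_iff _).2 h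
  rw [iSupIndep_iff_finsetSum_eq_zero_imp_eq_zero] at h1
  exact h1 Finset.univ f (fun i _ => hf i) h0 i (Finset.mem_univ i)

end decomp

variable {G V : Type*} [Group G] [AddCommGroup V] [DistribMulAction G V]

theorem mem_smul_iff {g : G} {W : AddSubgroup V} {x : V} : x ∈ g • W ↔ g⁻¹ • x ∈ W :=
  AddSubgroup.mem_pointwise_smul_iff_inv_smul_mem

theorem smul_iSup' {ι : Sort*} (g : G) (W : ι → AddSubgroup V) : g • (⨆ i, W i) = ⨆ i, g • W i := by
  exact AddSubgroup.map_iSup (DistribSMul.toAddMonoidHom V g) W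

variable (G V) in
/-- `G` acts irreducibly on `V ≠ 0` -/
structure Irr : Prop where
  nt : Nontrivial V
  irr : ∀ U : AddSubgroup V, (∀ g : G, ∀ x ∈ U, g • x ∈ U) → U = ⊥ ∨ U = ⊤

variable (G V) in
/-- a system of imprimitivity with primitive action of `G` -/
def ImpP : Prop :=
  ∃ (M : Subgroup G) (W : G ⧸ M → AddSubgroup V), IsCoatom M ∧ (∀ (g : G) (i : G ⧸ M), g • W i = W (g • i)) ∧
    iSupIndep W ∧ ⨆ i, W i = ⊤

/-- A `G`-invariant independent set of at least two nonzero subgroups gives a system of imprimitivity. -/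
theorem impP_of_set [Finite G] [Finite V] (hirr : Irr G V) (S : Set (AddSubgroup V))
    (hS : ∀ g : G, ∀ W ∈ S, g • W ∈ S) (hind : sSupIndep S) (hbot : ⊥ ∉ S) (hnt : S.Nontrivial) : ImpP G V := by
  classical
  have hfinA : Finite (AddSubgroup V) := inferInstance
  obtain ⟨W₁, hW₁, W₂, hW₂, hne⟩ := hnt
  set H₀ := MulAction.stabilizer G W₁ with hH₀
  have hspan : ⨆ g : G, g • W₁ = ⊤ := by
    rcases hirr.irr (⨆ g : G, g • W₁) (by
      intro g x hx
      have h1 : g • x ∈ g • (⨆ k : G, k • W₁) := AddSubgroup.smul_mem_pointwise_smul x g _ hx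
      rw [smul_iSup'] at h1
      have h2 : ⨆ k : G, g • k • W₁ ≤ ⨆ k : G, k • W₁ := by
        refine iSup_le fun k => ?_
        rw [smul_smul]
        exact le_iSup (fun k : G => k • W₁) (g * k)
      exact h2 h1) with h | h
    · exfalso
      have h1 : W₁ ≤ ⊥ := by
        rw [← h]
        have := le_iSup (fun k : G => k • W₁) 1
        rwa [one_smul] at this
      exact hbot (le_bot_iff.1 h1 ▸ hW₁)
    · exact h
  have hH₀top : H₀ ≠ ⊤ := by
    intro h
    have h1 : ∀ g : G, g • W₁ = W₁ := fun g => by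
      have : g ∈ H₀ := by rw [h]; exact Subgroup.mem_top g
      exact this
    have h2 : W₁ = ⊤ := by
      rw [← hspan]
      simp [h1]
    have h3 : Disjoint W₂ (sSup {W₁}) := hind.disjoint_sSup hW₂ (by simpa using hW₁) (by simpa using hne.symm)
    rw [sSup_singleton, h2, disjoint_top] at h3
    exact hbot (h3 ▸ hW₂)
  obtain ⟨M, hM, hHM⟩ := (eq_top_or_exists_le_coatom H₀).resolve_left hH₀top
  -- the family
  let t : S → AddSubgroup V := Subtype.val
  have ht : iSupIndep t := (sSupIndep_iff S).1 hind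
  let π : G → S := fun g => ⟨g • W₁, hS g W₁ hW₁⟩
  have hπ : ∀ g k : G, π g = π k → (g : G ⧸ M) = k := by
    intro g k h
    have h1 : g • W₁ = k • W₁ := congrArg Subtype.val h
    rw [QuotientGroup.eq]
    apply hHM
    rw [hH₀, MulAction.mem_stabilizer_iff, mul_smul, ← h1, ← mul_smul, inv_mul_cancel, one_smul]
  let A : Set (G ⧸ M) → Set S := fun Q => {s | ∃ g : G, (g : G ⧸ M) ∈ Q ∧ π g = s}
  let W : G ⧸ M → AddSubgroup V := fun q => ⨆ i ∈ A {q}, t i
  have hmono : ∀ Q R : Set (G ⧸ M), Disjoint Q R → Disjoint (A Q) (A R) := by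
    intro Q R hQR
    rw [Set.disjoint_left]
    rintro _ ⟨g, hg, rfl⟩ ⟨k, hk, h⟩
    rw [Set.disjoint_left] at hQR
    exact hQR hg (hπ k g h ▸ hk)
  refine ⟨M, W, hM, ?_, ?_, ?_⟩
  · intro g q
    have key : ∀ (g : G) (q : G ⧸ M), g • W q ≤ W (g • q) := by
      intro g q
      change g • (⨆ i ∈ A {q}, t i) ≤ _
      rw [smul_iSup']
      refine iSup_le fun s => ?_
      rw [smul_iSup']
      refine iSup_le fun hs => ?_
      obtain ⟨k, hk, rfl⟩ := hs
      have h1 : g • t (π k) = t (π (g * k)) := (mul_smul g k W₁).symm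
      rw [h1]
      refine le_iSup₂_of_le (π (g * k)) ⟨g * k, ?_, rfl⟩ le_rfl
      rw [Set.mem_singleton_iff] at hk ⊢
      rw [← hk]
      rfl
    apply le_antisymm (key g q)
    have h1 := key g⁻¹ (g • q)
    rw [inv_smul_smul] at h1
    have h2 : g • g⁻¹ • W (g • q) ≤ g • W q := by
      rw [AddSubgroup.pointwise_smul_le_pointwise_smul_iff]
      exact h1
    rwa [smul_inv_smul] at h2
  · intro q
    have h1 : (⨆ j, ⨆ (_ : j ≠ q), W j) ≤ ⨆ i ∈ A {q}ᶜ, t i := by
      refine iSup₂_le fun j hj => ?_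
      refine iSup₂_le fun s hs => ?_
      obtain ⟨k, hk, rfl⟩ := hs
      refine le_iSup₂_of_le (π k) ⟨k, ?_, rfl⟩ le_rfl
      rw [Set.mem_singleton_iff] at hk
      rw [hk]
      simpa using hj
    refine Disjoint.mono_right h1 ?_
    exact ht.disjoint_biSup_biSup' (hmono _ _ (by rw [Set.disjoint_compl_right_iff_subset])) (Set.toFinite _)
  · rw [eq_top_iff, ← hspan]
    refine iSup_le fun g => ?_
    refine le_iSup_of_le (g : G ⧸ M) ?_
    exact le_iSup₂_of_le (π g) ⟨g, rfl, rfl⟩ le_rfl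

end Cfsg.Agent.H511.Wt
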