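import Mathlib
import Cfsg.Agent.H511.Wt.Irr
set_option linter.all false

/-!
# The ring generated by an abelian normal subgroup is a field, or the action is imprimitive
-/

set_option autoImplicit false
set_option linter.style.haveILetI false

namespace Cfsg.Agent.H511.Wt

open scoped Pointwise

variable {G V : Type*} [Group G] [AddCommGroup V] [DistribMulAction G V]

variable (V) in
/-- the subring of `End V` generated by the subgroup `U` -/
def ringOf (U : Subgroup G) : Subring (AddMonoid.End V) :=
  Subring.closure (DistribMulAction.toAddMonoidEnd G V '' (U : Set G))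

theorem mem_ringOf {U : Subgroup G} {u : G} (hu : u ∈ U) :
    DistribMulAction.toAddMonoidEnd G V u ∈ ringOf V U := Subring.subset_closure ⟨u, hu, rfl⟩

/-- conjugation by `g` on `End V` -/
def cj (g : G) : AddMonoid.End V →+* AddMonoid.End V where
  toFun k := DistribMulAction.toAddMonoidEnd G V g * k * DistribMulAction.toAddMonoidEnd G V g⁻¹
  map_one' := by rw [mul_one, ← map_mul, mul_inv_cancel, map_one]
  map_mul' a b := by
    have h : DistribMulAction.toAddMonoidEnd G V g⁻¹ * DistribMulAction.toAddMonoidEnd G V g = 1 := by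
      rw [← map_mul, inv_mul_cancel, map_one]
    simp only [mul_assoc]
    rw [← mul_assoc (DistribMulAction.toAddMonoidEnd G V g⁻¹) (DistribMulAction.toAddMonoidEnd G V g), h, one_mul]
  map_zero' := by rw [mul_zero, zero_mul]
  map_add' a b := by rw [mul_add, add_mul]

theorem cj_apply (g : G) (k : AddMonoid.End V) (v : V) : cj g k (g • v) = g • k v := by
  change g • k (g⁻¹ • g • v) = _
  rw [inv_smul_smul]

theorem cj_mem {U : Subgroup G} [hU : U.Normal] (g : G) {k : AddMonoid.End V} (hk : k ∈ ringOf V U) :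
    cj g k ∈ ringOf V U := by
  have h1 : ringOf V U ≤ (ringOf V U).comap (cj g) := by
    rw [ringOf, Subring.closure_le]
    rintro _ ⟨u, hu, rfl⟩
    rw [SetLike.mem_coe, Subring.mem_comap]
    have h2 : cj g (DistribMulAction.toAddMonoidEnd G V u) = DistribMulAction.toAddMonoidEnd G V (g * u * g⁻¹) := by
      rw [map_mul, map_mul]
      rfl
    rw [h2]
    exact mem_ringOf (hU.conj_mem u hu g)
  exact h1 hk

/-- the vectors killed by a set of endomorphisms -/
def tors (I : Set (AddMonoid.End V)) : AddSubgroup V where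
  carrier := {v | ∀ k ∈ I, k v = 0}
  add_mem' := fun {a b} ha hb k hk => by rw [map_add, ha k hk, hb k hk, add_zero]
  zero_mem' := fun k _ => map_zero k
  neg_mem' := fun {a} ha k hk => by rw [map_neg, ha k hk, neg_zero]

theorem mem_tors {I : Set (AddMonoid.End V)} {v : V} : v ∈ tors I ↔ ∀ k ∈ I, k v = 0 := Iff.rfl

theorem ringOf_comm {U : Subgroup G} (hU : ∀ a ∈ U, ∀ b ∈ U, a * b = b * a) (a b : ringOf V U) : a * b = b * a := by
  have h : IsMulCommutative (ringOf V U) := by
    apply Subring.isMulCommutative_closure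
    rintro _ ⟨u, hu, rfl⟩ _ ⟨w, hw, rfl⟩
    rw [← map_mul, ← map_mul, hU u hu w hw]
  exact h.is_comm.comm a b

theorem field_or_imp [Finite G] [Finite V] (hirr : Irr G V) (U : Subgroup G) [hUn : U.Normal]
    (hU : ∀ a ∈ U, ∀ b ∈ U, a * b = b * a) : ImpP G V ∨ IsField (ringOf V U) := by
  classical
  have hnt := hirr.nt
  set K := ringOf V U with hK
  letI : CommRing K := { (inferInstance : Ring K) with mul_comm := ringOf_comm hU }
  have hKfin : Finite K := by
    have : Finite (AddMonoid.End V) := Finite.of_injective (fun f => (f : V → V)) DFunLike.coe_injective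
    infer_instance
  have hKnt : Nontrivial K := by
    refine ⟨0, 1, fun h => ?_⟩
    obtain ⟨v, hv⟩ := exists_ne (0 : V)
    apply hv
    have h1 := congrArg (fun k : K => (k : AddMonoid.End V) v) h
    exact h1.symm
  -- the torsion submodules
  let T : MaximalSpectrum K → Submodule K V := fun m => Submodule.torsionBySet K V (m.asIdeal : Set K)
  have hTind : iSupIndep T := by
    haveI : Finite (MaximalSpectrum K) := inferInstance
    haveI := Fintype.ofFinite (MaximalSpectrum K)
    rw [iSupIndep_iff_supIndep_univ]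
    apply Submodule.supIndep_torsionBySet_ideal
    intro m _ n _ hmn
    exact Ideal.isCoprime_iff_sup_eq.1 (Ideal.isCoprime_of_isMaximal fun h => hmn (MaximalSpectrum.ext h))
  let t : MaximalSpectrum K → AddSubgroup V := fun m => (T m).toAddSubgroup
  have htind : iSupIndep t := by
    rw [← iSupIndep_map_orderIso_iff AddSubgroup.toIntSubmodule, iSupIndep_iff_finsetSum_eq_zero_imp_eq_zero]
    rw [iSupIndep_iff_finsetSum_eq_zero_imp_eq_zero] at hTind
    intro s v hv h0 i hi
    exact hTind s v (fun j hj => hv j hj) h0 i hi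
  have ht : ∀ m, ∀ v, v ∈ t m ↔ ∀ k ∈ m.asIdeal, (k : AddMonoid.End V) v = 0 := by
    intro m v
    change v ∈ T m ↔ _
    rw [Submodule.mem_torsionBySet_iff]
    constructor
    · intro h k hk
      exact h ⟨k, hk⟩
    · intro h k
      exact h k.1 k.2
  let S : Set (AddSubgroup V) := {W | W ≠ ⊥ ∧ ∃ m, t m = W}
  have hSG : ∀ g : G, ∀ W ∈ S, g • W ∈ S := by
    rintro g W ⟨h0, m, rfl⟩
    refine ⟨?_, ?_⟩
    · intro h
      apply h0
      rw [eq_bot_iff]
      intro x hx
      have h1 : g • x ∈ g • t m := AddSubgroup.smul_mem_pointwise_smul x g _ hx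
      rw [h, AddSubgroup.mem_bot, smul_eq_zero_iff_eq] at h1
      exact h1
    · -- the conjugate ideal
      let c : K →+* K := ((cj g⁻¹).restrict K K (fun k hk => cj_mem g⁻¹ hk))
      have hc : Function.Surjective c := by
        intro k
        refine ⟨⟨cj g k, cj_mem g k.2⟩, Subtype.ext ?_⟩
        apply AddMonoidHom.ext
        intro v
        change g⁻¹ • (g • (k : AddMonoid.End V) (g⁻¹ • (g⁻¹)⁻¹ • v)) = (k : AddMonoid.End V) v
        rw [inv_smul_smul, smul_inv_smul]
      have hmax : (m.asIdeal.comap c).IsMaximal := by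
        haveI := m.isMaximal
        exact Ideal.comap_isMaximal_of_surjective c hc
      refine ⟨⟨m.asIdeal.comap c, hmax⟩, ?_⟩
      ext v
      rw [ht, mem_smul_iff, ht]
      constructor
      · intro h k hk
        have h1 := h ⟨cj g k, cj_mem g k.2⟩ (by
          rw [Ideal.mem_comap]
          convert hk
          apply Subtype.ext
          apply AddMonoidHom.ext
          intro v
          change g⁻¹ • (g • (k : AddMonoid.End V) (g⁻¹ • (g⁻¹)⁻¹ • v)) = (k : AddMonoid.End V) v
          rw [inv_smul_smul, smul_inv_smul])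
        change g • (k : AddMonoid.End V) (g⁻¹ • v) = 0 at h1
        rwa [smul_eq_zero_iff_eq] at h1
      · intro h k hk
        have h1 := h _ hk
        change g⁻¹ • (k : AddMonoid.End V) ((g⁻¹)⁻¹ • g⁻¹ • v) = 0 at h1
        rwa [inv_smul_smul, smul_eq_zero_iff_eq] at h1
  have hSind : sSupIndep S := by
    refine sSupIndep.mono htind.sSupIndep_range ?_
    rintro W ⟨_, m, rfl⟩
    exact ⟨m, rfl⟩
  have hSbot : ⊥ ∉ S := fun h => h.1 rfl
  by_cases hSnt : S.Nontrivial
  · exact Or.inl (impP_of_set hirr S hSG hSind hSbot hSnt)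
  right
  -- a simple submodule
  obtain ⟨s, hs⟩ := IsAtomic.exists_atom (Submodule K V)
  rw [← isSimpleModule_iff_isAtom, isSimpleModule_iff_quot_maximal] at hs
  obtain ⟨I, hI, ⟨e⟩⟩ := hs
  have hsI : ∀ x ∈ s, x ∈ t ⟨I, hI⟩ := by
    intro x hx
    rw [ht]
    intro k hk
    have h1 : e (k • ⟨x, hx⟩) = 0 := by
      rw [map_smul]
      obtain ⟨y, hy⟩ := Ideal.Quotient.mk_surjective (e ⟨x, hx⟩)
      rw [← hy]
      change Ideal.Quotient.mk I (k * y) = 0
      rw [Ideal.Quotient.eq_zero_iff_mem]
      exact I.mul_mem_right _ hk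
    rw [LinearEquiv.map_eq_zero_iff] at h1
    exact congrArg Subtype.val h1
  have hsne : t ⟨I, hI⟩ ≠ ⊥ := by
    intro h
    haveI : Nontrivial (K ⧸ I) := Ideal.Quotient.nontrivial_iff.2 hI.ne_top
    haveI : Nontrivial s := e.toEquiv.nontrivial
    obtain ⟨x, hx⟩ := exists_ne (0 : s)
    have h1 := hsI x x.2
    rw [h, AddSubgroup.mem_bot] at h1
    exact hx (Subtype.ext h1)
  have hSsub : S = {t ⟨I, hI⟩} := by
    rw [Set.not_nontrivial_iff] at hSnt
    ext W
    constructor
    · intro hW
      exact hSnt hW ⟨hsne, _, rfl⟩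
    · rintro rfl
      exact ⟨hsne, _, rfl⟩
  have htop : t ⟨I, hI⟩ = ⊤ := by
    rcases hirr.irr (t ⟨I, hI⟩) (by
      intro g x hx
      have h1 : g • t ⟨I, hI⟩ ∈ S := hSG g _ ⟨hsne, _, rfl⟩
      rw [hSsub, Set.mem_singleton_iff] at h1
      rw [← h1]
      exact AddSubgroup.smul_mem_pointwise_smul x g _ hx) with h | h
    · exact absurd h hsne
    · exact h
  by_contra hnf
  have hIbot := Ring.ne_bot_of_isMaximal_of_not_isField hI hnf
  apply hIbot
  rw [eq_bot_iff]
  intro k hk
  rw [Ideal.mem_bot]
  apply Subtype.ext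
  apply AddMonoidHom.ext
  intro v
  have h1 : v ∈ t ⟨I, hI⟩ := by rw [htop]; exact AddSubgroup.mem_top v
  exact (ht _ v).1 h1 k hk

end Cfsg.Agent.H511.Wt
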