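import Mathlib
import Cfsg.Agent.H511.Wt.Cnt
set_option linter.all false

-- part: H511/Wt/DLBound
section
/-!
# The derived length of irreducible solvable groups: numerical bounds
-/

set_option autoImplicit false
set_option linter.style.haveILetI false
set_option linter.unusedSectionVars false

namespace Cfsg.Agent.H511.Wt

open Subgroup

universe u

/-- the bound -/
def gB (N : ℕ) : ℕ :=
  if N ≤ 2 then 0 else if N ≤ 3 then 1 else if N ≤ 8 then 2 else if N ≤ 63 then 4
  else if N ≤ 124 then 6 else if N ≤ 6560 then 7 else 8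

theorem gB_mono {a b : ℕ} (h : a ≤ b) : gB a ≤ gB b := by
  unfold gB
  split_ifs <;> omega

theorem num1 {w k : ℕ} (hw : 2 ≤ w) (hk : 2 ≤ k) (h : w ^ k ≤ 262144) : gB k + 1 + gB w ≤ gB (w ^ k) := by
  have hk2 : k ≤ 18 := by
    by_contra hlt
    push Not at hlt
    have h1 : 2 ^ 19 ≤ w ^ k := (Nat.pow_le_pow_right (by norm_num) hlt).trans (Nat.pow_le_pow_left hw k)
    norm_num at h1
    omega
  have hw2 : w ≤ 512 := by
    by_contra hlt
    push Not at hlt
    have h1 : 513 ^ 2 ≤ w ^ k := (Nat.pow_le_pow_left hlt 2).trans (Nat.pow_le_pow_right (by omega) hk)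
    norm_num at h1
    omega
  have main : ∀ lo c, lo ≤ w → gB w ≤ c →
      (∀ k' ∈ Finset.Icc 2 18, lo ^ k' ≤ 262144 → gB k' + 1 + c ≤ gB (lo ^ k')) →
      gB k + 1 + gB w ≤ gB (w ^ k) := by
    intro lo c h1 h2 h3
    have h4 : lo ^ k ≤ w ^ k := Nat.pow_le_pow_left h1 k
    have h5 := h3 k (Finset.mem_Icc.2 ⟨hk, hk2⟩) (h4.trans h)
    have h6 := gB_mono h4
    omega
  by_cases h1 : w ≤ 2
  · exact main 2 0 hw (by simp [gB, h1]) (by decide)
  by_cases h2 : w ≤ 3
  · exact main 3 1 (by omega) (by simp [gB, h1, h2]) (by decide)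
  by_cases h3 : w ≤ 8
  · exact main 4 2 (by omega) (by simp [gB, h1, h2, h3]) (by decide)
  by_cases h4 : w ≤ 63
  · exact main 9 4 (by omega) (by simp [gB, h1, h2, h3, h4]) (by decide)
  by_cases h5 : w ≤ 124
  · exact main 64 6 (by omega) (by simp [gB, h1, h2, h3, h4, h5]) (by decide)
  · exact main 125 7 (by omega) (by simp [gB, h1, h2, h3, h4, h5, show w ≤ 6560 by omega]) (by decide)

theorem num2 {q m : ℕ} (hq : 3 ≤ q) (hm : 2 ≤ m) (h3 : m = 3 → 4 ≤ q) (h : q ^ m ≤ 262144) :
    gB (m ^ 2) + 2 ≤ gB (q ^ m) ∧ m ^ 2 < q ^ m := by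
  have hm2 : m ≤ 11 := by
    by_contra hlt
    push Not at hlt
    have h1 : 3 ^ 12 ≤ q ^ m := (Nat.pow_le_pow_right (by norm_num) hlt).trans (Nat.pow_le_pow_left hq m)
    norm_num at h1
    omega
  have key : ∀ m' ∈ Finset.Icc 2 11, m' ≠ 3 → gB (m' ^ 2) + 2 ≤ gB (3 ^ m') ∧ m' ^ 2 < 3 ^ m' := by decide
  by_cases hm3 : m = 3
  · subst hm3
    have h1 : 4 ^ 3 ≤ q ^ 3 := Nat.pow_le_pow_left (h3 rfl) 3
    have h2 := gB_mono h1
    have h4 : gB (3 ^ 2) + 2 ≤ gB (4 ^ 3) ∧ 3 ^ 2 < 4 ^ 3 := by decide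
    omega
  · have h1 : 3 ^ m ≤ q ^ m := Nat.pow_le_pow_left hq m
    have h2 := gB_mono h1
    have h4 := key m (Finset.mem_Icc.2 ⟨hm, hm2⟩) hm3
    omega

/-- **The derived length of an irreducible solvable linear group.** -/
theorem dln (N : ℕ) (hN : N ≤ 262144) : DLn.{u} N (gB N) := by
  induction N using Nat.strong_induction_on with
  | _ N ih =>
    by_cases h2 : N = 2
    · subst h2
      exact dln_two.mono (Nat.zero_le _)
    by_cases h3 : N = 3
    · subst h3
      exact (dln_prime Nat.prime_three).mono (by decide)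
    intro G V _ _ _ _ _ _ hirr hcard
    have hnt := hirr.nt
    have hN1 : 1 < N := by
      rw [← hcard]
      exact Finite.one_lt_card
    rcases dl_cases G V hirr with ⟨w, k, hw, hk, hwk, h⟩ | ⟨q, m, s, hq, hm, hqm, hs, _, hs0, hr, hs1, h⟩
    · rw [hcard] at hwk
      have hlt1 : w < N := by
        rw [hwk]
        calc w = w ^ 1 := (pow_one w).symm
          _ < w ^ k := Nat.pow_lt_pow_right (by omega) (by omega)
      have hlt2 : k < N := by
        rw [hwk]
        exact Nat.lt_pow_self (by omega)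
      have h1 := h _ _ (ih w hlt1 (by omega)) (ih k hlt2 (by omega))
      refine h1.mono ?_
      rw [hwk]
      exact num1 hw hk (hwk ▸ hN)
    · rw [hcard] at hqm
      by_cases hs' : s = 1
      · refine (hs1 hs').mono ?_
        have : gB 4 ≤ gB N := gB_mono (by omega)
        have h4 : gB 4 = 2 := by decide
        omega
      · obtain ⟨r, hrp, hrs⟩ := Nat.exists_prime_and_dvd hs'
        obtain ⟨hr1, hr2⟩ := hr r hrp hrs
        have hq2 := hq.two_le
        have h5 : r ≤ q - 1 := Nat.le_of_dvd (by omega) hr1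
        have h6 : r ≤ m := Nat.le_of_dvd hm hr2
        have h7 := hrp.two_le
        have hnum := num2 (q := q) (m := m) (by omega) (by omega) (by
          intro hm3
          subst hm3
          have := (Nat.prime_dvd_prime_iff_eq hrp Nat.prime_three).1 hr2
          omega) (hqm ▸ hN)
        refine (h (gB (m ^ 2)) ?_ ?_).mono (by rw [hqm]; exact hnum.1)
        · have : gB 4 ≤ gB (m ^ 2) := gB_mono (by nlinarith)
          have h4 : gB 4 = 2 := by decide
          omega
        · intro n hn hn1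
          have h8 : n ≤ m ^ 2 := (Nat.le_of_dvd hs0 hn).trans hs
          have h9 : n < N := by
            rw [hqm]
            exact lt_of_le_of_lt h8 hnum.2
          exact (ih n h9 (by omega)).mono (gB_mono h8)

theorem pow_eq_prime_pow {p a w k : ℕ} (hp : p.Prime) (hk : k ≠ 0) (h : w ^ k = p ^ a) : ∃ i, w = p ^ i ∧ i * k = a := by
  have h1 : w ∣ p ^ a := by
    rw [← h]
    exact dvd_pow_self w hk
  obtain ⟨i, _, rfl⟩ := (Nat.dvd_prime_pow hp).1 h1
  refine ⟨i, rfl, ?_⟩
  rw [← pow_mul] at h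
  exact Nat.pow_right_injective hp.two_le h

/-- refined bounds: a criterion -/
theorem dln_of {N D : ℕ} (f : ℕ → ℕ) (hf : ∀ n < N, DLn.{u} n (f n)) (hD : 2 ≤ D)
    (c1 : ∀ w k, 2 ≤ w → 2 ≤ k → w ^ k = N → f k + 1 + f w ≤ D)
    (c2 : ∀ q m, IsPrimePow q → 1 ≤ m → q ^ m = N → ∀ r, r.Prime → r ∣ q - 1 → r ∣ m → ∀ s, s ≤ m ^ 2 →
      (∀ r', r'.Prime → r' ∣ s → r' ∣ q - 1 ∧ r' ∣ m) → ∀ n, n ∣ s → 1 < n → 0 < s →
      n < N ∧ f n + 2 ≤ D) (hD3 : 3 ≤ D) :
    DLn.{u} N D := by
  intro G V _ _ _ _ _ _ hirr hcard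
  rcases dl_cases G V hirr with ⟨w, k, hw, hk, hwk, h⟩ | ⟨q, m, s, hq, hm, hqm, hs, _, hs0, hr, hs1, h⟩
  · rw [hcard] at hwk
    have hlt1 : w < N := by
      rw [hwk]
      calc w = w ^ 1 := (pow_one w).symm
        _ < w ^ k := Nat.pow_lt_pow_right (by omega) (by omega)
    have hlt2 : k < N := by
      rw [hwk]
      exact Nat.lt_pow_self (by omega)
    exact (h _ _ (hf w hlt1) (hf k hlt2)).mono (c1 w k hw hk hwk.symm)
  · rw [hcard] at hqm
    by_cases hs' : s = 1
    · exact (hs1 hs').mono hD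
    · obtain ⟨r, hrp, hrs⟩ := Nat.exists_prime_and_dvd hs'
      obtain ⟨hr1, hr2⟩ := hr r hrp hrs
      have h1 : DL G V (D - 2 + 2) := by
        refine h (D - 2) (by omega) ?_
        intro n hn hn1
        obtain ⟨h3, h4⟩ := c2 q m hq hm hqm.symm r hrp hr1 hr2 s hs hr n hn hn1 hs0
        exact (hf n h3).mono (by omega)
      rwa [Nat.sub_add_cancel hD] at h1

theorem dln_prime_sq {p : ℕ} (hp : p.Prime) : DLn.{u} (p ^ 2) 4 := by
  intro G V _ _ _ _ _ _ hirr hcard
  rcases dl_cases G V hirr with ⟨w, k, hw, hk, hwk, h⟩ | ⟨q, m, s, hq, hm, hqm, hs, _, hs0, hr, hs1, h⟩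
  · rw [hcard] at hwk
    obtain ⟨i, rfl, hi⟩ := pow_eq_prime_pow hp (by omega) hwk.symm
    have h1 : i = 1 ∧ k = 2 := by
      have : i ≠ 0 := by
        rintro rfl
        simp at hi
      have : k ∣ 2 := ⟨i, by rw [← hi, mul_comm]⟩
      have hk2 : k = 2 := by
        rcases (Nat.dvd_prime Nat.prime_two).1 this with h | h
        · omega
        · exact h
      subst hk2
      omega
    obtain ⟨rfl, rfl⟩ := h1
    rw [pow_one] at h
    exact (h 1 0 (dln_prime hp) dln_two).mono (by norm_num)
  · rw [hcard] at hqm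
    obtain ⟨i, rfl, hi⟩ := pow_eq_prime_pow hp (by omega) hqm.symm
    have h1 : m ≤ 2 := Nat.le_of_dvd (by norm_num) ⟨i, by rw [← hi, mul_comm]⟩
    refine h 2 (by norm_num) ?_
    intro n hn hn1
    have h2 : n ≤ 4 := (Nat.le_of_dvd hs0 hn).trans (hs.trans (by nlinarith))
    refine (dln n (by omega)).mono ((gB_mono h2).trans (by decide))

theorem dln_16 : DLn.{u} 16 3 := by
  refine dln_of gB (fun n hn => dln n (by omega)) (by norm_num) ?_ ?_ (by norm_num)
  · intro w k hw hk hwk
    obtain ⟨i, rfl, hi⟩ := pow_eq_prime_pow (w := w) (k := k) (a := 4) Nat.prime_two (by omega) (by rw [hwk]; norm_num)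
    have h1 : k ≤ 4 := Nat.le_of_dvd (by norm_num) ⟨i, by rw [← hi, mul_comm]⟩
    interval_cases k
    · obtain rfl : i = 2 := by omega
      decide
    · omega
    · obtain rfl : i = 1 := by omega
      decide
  · intro q m hq hm hqm r hr hr1 hr2
    exfalso
    obtain ⟨i, rfl, hi⟩ := pow_eq_prime_pow (w := q) (k := m) (a := 4) Nat.prime_two (by omega) (by rw [hqm]; norm_num)
    have h1 : m ≤ 4 := Nat.le_of_dvd (by norm_num) ⟨i, by rw [← hi, mul_comm]⟩
    interval_cases m
    · exact hr.one_lt.ne' (Nat.dvd_one.1 hr2)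
    · obtain rfl : i = 2 := by omega
      have := (Nat.prime_dvd_prime_iff_eq hr Nat.prime_two).1 hr2
      subst this
      norm_num at hr1
    · omega
    · obtain rfl : i = 1 := by omega
      norm_num at hr1
      exact hr.one_lt.ne' hr1

theorem dln_128 : DLn.{u} 128 5 := by
  refine dln_of gB (fun n hn => dln n (by omega)) (by norm_num) ?_ ?_ (by norm_num)
  · intro w k hw hk hwk
    obtain ⟨i, rfl, hi⟩ := pow_eq_prime_pow (w := w) (k := k) (a := 7) Nat.prime_two (by omega) (by rw [hwk]; norm_num)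
    have h1 : k ≤ 7 := Nat.le_of_dvd (by norm_num) ⟨i, by rw [← hi, mul_comm]⟩
    interval_cases k <;> try omega
    obtain rfl : i = 1 := by omega
    decide
  · intro q m hq hm hqm r hr hr1 hr2
    exfalso
    obtain ⟨i, rfl, hi⟩ := pow_eq_prime_pow (w := q) (k := m) (a := 7) Nat.prime_two (by omega) (by rw [hqm]; norm_num)
    have h1 : m ≤ 7 := Nat.le_of_dvd (by norm_num) ⟨i, by rw [← hi, mul_comm]⟩
    interval_cases m <;> try omega
    · exact hr.one_lt.ne' (Nat.dvd_one.1 hr2)
    · obtain rfl : i = 1 := by omega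
      norm_num at hr1
      exact hr.one_lt.ne' hr1

theorem dln_256 : DLn.{u} 256 5 := by
  refine dln_of gB (fun n hn => dln n (by omega)) (by norm_num) ?_ ?_ (by norm_num)
  · intro w k hw hk hwk
    obtain ⟨i, rfl, hi⟩ := pow_eq_prime_pow (w := w) (k := k) (a := 8) Nat.prime_two (by omega) (by rw [hwk]; norm_num)
    have h1 : k ≤ 8 := Nat.le_of_dvd (by norm_num) ⟨i, by rw [← hi, mul_comm]⟩
    interval_cases k <;> try omega
    · obtain rfl : i = 4 := by omega
      decide
    · obtain rfl : i = 2 := by omega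
      decide
    · obtain rfl : i = 1 := by omega
      decide
  · intro q m hq hm hqm r hr hr1 hr2
    exfalso
    obtain ⟨i, rfl, hi⟩ := pow_eq_prime_pow (w := q) (k := m) (a := 8) Nat.prime_two (by omega) (by rw [hqm]; norm_num)
    have h1 : m ≤ 8 := Nat.le_of_dvd (by norm_num) ⟨i, by rw [← hi, mul_comm]⟩
    interval_cases m <;> try omega
    · exact hr.one_lt.ne' (Nat.dvd_one.1 hr2)
    · obtain rfl : i = 4 := by omega
      have := (Nat.prime_dvd_prime_iff_eq hr Nat.prime_two).1 hr2
      subst this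
      norm_num at hr1
    · obtain rfl : i = 2 := by omega
      have h2 : r ∣ 2 ^ 2 := hr2
      have := (Nat.prime_dvd_prime_iff_eq hr Nat.prime_two).1 (hr.dvd_of_dvd_pow h2)
      subst this
      norm_num at hr1
    · obtain rfl : i = 1 := by omega
      norm_num at hr1
      exact hr.one_lt.ne' hr1

theorem dln_512 : DLn.{u} 512 5 := by
  refine dln_of gB (fun n hn => dln n (by omega)) (by norm_num) ?_ ?_ (by norm_num)
  · intro w k hw hk hwk
    obtain ⟨i, rfl, hi⟩ := pow_eq_prime_pow (w := w) (k := k) (a := 9) Nat.prime_two (by omega) (by rw [hwk]; norm_num)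
    have h1 : k ≤ 9 := Nat.le_of_dvd (by norm_num) ⟨i, by rw [← hi, mul_comm]⟩
    interval_cases k <;> try omega
    · obtain rfl : i = 3 := by omega
      decide
    · obtain rfl : i = 1 := by omega
      decide
  · intro q m hq hm hqm r hr hr1 hr2
    exfalso
    obtain ⟨i, rfl, hi⟩ := pow_eq_prime_pow (w := q) (k := m) (a := 9) Nat.prime_two (by omega) (by rw [hqm]; norm_num)
    have h1 : m ≤ 9 := Nat.le_of_dvd (by norm_num) ⟨i, by rw [← hi, mul_comm]⟩
    interval_cases m <;> try omega
    · exact hr.one_lt.ne' (Nat.dvd_one.1 hr2)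
    · obtain rfl : i = 3 := by omega
      have := (Nat.prime_dvd_prime_iff_eq hr Nat.prime_three).1 hr2
      subst this
      norm_num at hr1
    · obtain rfl : i = 1 := by omega
      norm_num at hr1
      exact hr.one_lt.ne' hr1

theorem dln_1024 : DLn.{u} 1024 5 := by
  refine dln_of gB (fun n hn => dln n (by omega)) (by norm_num) ?_ ?_ (by norm_num)
  · intro w k hw hk hwk
    obtain ⟨i, rfl, hi⟩ := pow_eq_prime_pow (w := w) (k := k) (a := 10) Nat.prime_two (by omega) (by rw [hwk]; norm_num)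
    have h1 : k ≤ 10 := Nat.le_of_dvd (by norm_num) ⟨i, by rw [← hi, mul_comm]⟩
    interval_cases k <;> try omega
    · obtain rfl : i = 5 := by omega
      decide
    · obtain rfl : i = 2 := by omega
      decide
    · obtain rfl : i = 1 := by omega
      decide
  · intro q m hq hm hqm r hr hr1 hr2
    exfalso
    obtain ⟨i, rfl, hi⟩ := pow_eq_prime_pow (w := q) (k := m) (a := 10) Nat.prime_two (by omega) (by rw [hqm]; norm_num)
    have h1 : m ≤ 10 := Nat.le_of_dvd (by norm_num) ⟨i, by rw [← hi, mul_comm]⟩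
    interval_cases m <;> try omega
    · exact hr.one_lt.ne' (Nat.dvd_one.1 hr2)
    · obtain rfl : i = 5 := by omega
      have := (Nat.prime_dvd_prime_iff_eq hr Nat.prime_two).1 hr2
      subst this
      norm_num at hr1
    · obtain rfl : i = 2 := by omega
      have := (Nat.prime_dvd_prime_iff_eq hr Nat.prime_five).1 hr2
      subst this
      norm_num at hr1
    · obtain rfl : i = 1 := by omega
      norm_num at hr1
      exact hr.one_lt.ne' hr1

theorem dln_81 : DLn.{u} 81 5 := by
  refine dln_of (fun n => if n = 16 then 3 else gB n) (fun n hn => ?_) (by norm_num) ?_ ?_ (by norm_num)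
  · by_cases h : n = 16
    · rw [if_pos h, h]
      exact dln_16
    · rw [if_neg h]
      exact dln n (by omega)
  · intro w k hw hk hwk
    obtain ⟨i, rfl, hi⟩ := pow_eq_prime_pow (w := w) (k := k) (a := 4) Nat.prime_three (by omega) (by rw [hwk]; norm_num)
    have h1 : k ≤ 4 := Nat.le_of_dvd (by norm_num) ⟨i, by rw [← hi, mul_comm]⟩
    interval_cases k <;> try omega
    · obtain rfl : i = 2 := by omega
      decide
    · obtain rfl : i = 1 := by omega
      decide
  · intro q m hq hm hqm r hr hr1 hr2 s hs hrs n hn hn1 hs0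
    obtain ⟨i, rfl, hi⟩ := pow_eq_prime_pow (w := q) (k := m) (a := 4) Nat.prime_three (by omega) (by rw [hqm]; norm_num)
    have h1 : m ≤ 4 := Nat.le_of_dvd (by norm_num) ⟨i, by rw [← hi, mul_comm]⟩
    have hns : n ≤ s := Nat.le_of_dvd hs0 hn
    interval_cases m <;> try omega
    · -- `q = 9`, `s ≤ 4`
      have h2 : n ≤ 4 := by omega
      refine ⟨by omega, ?_⟩
      interval_cases n <;> decide
    · -- `q = 3`, `s ≤ 16`
      obtain rfl : i = 1 := by omega
      have h2 : n ≤ 16 := by omega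
      refine ⟨by omega, ?_⟩
      -- `n` is a power of `2`
      have h3 : ∀ r', r'.Prime → r' ∣ n → r' = 2 := by
        intro r' hr' hrn
        have h4 := (hrs r' hr' (hrn.trans hn)).1
        norm_num at h4
        exact (Nat.prime_dvd_prime_iff_eq hr' Nat.prime_two).1 h4
      interval_cases n
      all_goals first
        | decide
        | exact absurd (h3 3 Nat.prime_three (by decide)) (by decide)
        | exact absurd (h3 5 Nat.prime_five (by decide)) (by decide)
        | exact absurd (h3 7 (by norm_num) (by decide)) (by decide)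
        | exact absurd (h3 11 (by norm_num) (by decide)) (by decide)
        | exact absurd (h3 13 (by norm_num) (by decide)) (by decide)

end Cfsg.Agent.H511.Wt
end

-- part: H511/Wt/Num
section
/-!
# Numerical estimates
-/

set_option autoImplicit false
set_option linter.style.haveILetI false
set_option linter.unusedSectionVars false
set_option exponentiation.threshold 2000

namespace Cfsg.Agent.H511.Wt

theorem pow_om_le {p e : ℕ} (he : e ≠ 0) (h : ∀ r, r.Prime → r ∣ e → p ≤ r) : p ^ om e ≤ e := by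
  conv_rhs => rw [← Nat.prod_primeFactorsList he]
  apply List.pow_card_le_prod
  intro x hx
  exact h x (Nat.prime_of_mem_primeFactorsList hx) (Nat.dvd_of_mem_primeFactorsList hx)

theorem two_pow_om_le {e : ℕ} (he : e ≠ 0) : 2 ^ om e ≤ e := pow_om_le he fun _ hr _ => hr.two_le

theorem om_pow {p a : ℕ} (hp : p.Prime) : om (p ^ a) = a := by
  unfold om
  rw [Nat.Prime.primeFactorsList_pow hp, List.length_replicate]

theorem om_sq {e : ℕ} (he : e ≠ 0) : om (e ^ 2) = 2 * om e := by
  rw [sq, om_mul he he]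
  ring

theorem succ_pow_le {n k : ℕ} (h : k ≤ n) : (n + 1) ^ k ≤ 3 * n ^ k := by
  rcases Nat.eq_zero_or_pos n with hn | hn
  · subst hn
    obtain rfl : k = 0 := by omega
    norm_num
  have hn' : (0 : ℝ) < n := by exact_mod_cast hn
  have h1 : (1 + 1 / (n : ℝ)) ^ k ≤ 3 := by
    have h2 : (1 + 1 / (n : ℝ)) ≤ Real.exp (1 / n) := by
      have := Real.add_one_le_exp (1 / (n : ℝ))
      linarith
    calc (1 + 1 / (n : ℝ)) ^ k ≤ Real.exp (1 / n) ^ k := by
          refine pow_le_pow_left₀ (by positivity) h2 k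
      _ = Real.exp (k * (1 / n)) := by rw [← Real.exp_nat_mul]
      _ ≤ Real.exp 1 := by
          apply Real.exp_le_exp.2
          rw [mul_one_div, div_le_one hn']
          exact_mod_cast h
      _ ≤ 3 := by
          have := Real.exp_one_lt_d9
          linarith
  have h3 : ((n : ℝ) + 1) ^ k ≤ 3 * (n : ℝ) ^ k := by
    have h4 : ((n : ℝ) + 1) = (1 + 1 / (n : ℝ)) * n := by field_simp
    rw [h4, mul_pow]
    exact mul_le_mul_of_nonneg_right h1 (by positivity)
  exact_mod_cast h3

theorem growth {b k e₀ C t : ℕ} (hb : 3 ≤ b) (hk : k ≤ e₀) (ht : t ≤ e₀) (h0 : C * e₀ ^ k ≤ b ^ (e₀ - t)) {e : ℕ}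
    (he : e₀ ≤ e) : C * e ^ k ≤ b ^ (e - t) := by
  induction he with
  | refl => exact h0
  | @step e he ih =>
    have h1 : (e + 1) ^ k ≤ 3 * e ^ k := succ_pow_le (hk.trans he)
    have h2 : e + 1 - t = (e - t) + 1 := by
      have : e₀ ≤ e := he
      omega
    rw [h2, pow_succ]
    calc C * (e + 1) ^ k ≤ C * (3 * e ^ k) := Nat.mul_le_mul_left _ h1
      _ = (C * e ^ k) * 3 := by ring
      _ ≤ b ^ (e - t) * b := Nat.mul_le_mul ih hb

/-- large `e` -/
theorem numA0 {e : ℕ} (he : 513 ≤ e) : e ^ (8 * om e + 12) ≤ 3 ^ (e - 11) := by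
  have h2 := two_pow_om_le (e := e) (by omega)
  by_cases h : om e ≤ 9
  · calc e ^ (8 * om e + 12) ≤ e ^ 84 := Nat.pow_le_pow_right (by omega) (by omega)
      _ = 1 * e ^ 84 := (one_mul _).symm
      _ ≤ 3 ^ (e - 11) := growth (e₀ := 513) le_rfl (by norm_num) (by norm_num) (by norm_num) he
  · have key : ∀ a, 10 ≤ a → a * (8 * a + 12) ≤ 2 ^ a - 11 ∧ 8 * a + 12 ≤ 2 ^ a ∧ 11 ≤ 2 ^ a := by
      intro a ha
      induction ha with
      | refl => norm_num
      | @step a ha ih =>
        have ha' : 10 ≤ a := ha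
        obtain ⟨h1, h3, h4⟩ := ih
        have h5 : 2 ^ (a + 1) = 2 * 2 ^ a := by ring
        have h6 : a * (8 * a + 12) + 11 ≤ 2 ^ a := by omega
        refine ⟨?_, ?_, ?_⟩
        · have h7 : (a + 1) * (8 * (a + 1) + 12) + 11 ≤ 2 * (a * (8 * a + 12) + 11) := by nlinarith
          change (a + 1) * (8 * (a + 1) + 12) ≤ 2 ^ (a + 1) - 11
          omega
        · omega
        · omega
    obtain ⟨h1, h3, h4⟩ := key (om e) (by omega)
    have h5 : 1 * e ^ (8 * om e + 12) ≤ 3 ^ (e - 11) := by
      refine growth (e₀ := 2 ^ om e) le_rfl h3 h4 ?_ h2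
      rw [one_mul, ← pow_mul]
      calc 2 ^ (om e * (8 * om e + 12)) ≤ 3 ^ (om e * (8 * om e + 12)) := Nat.pow_le_pow_left (by norm_num) _
        _ ≤ 3 ^ (2 ^ om e - 11) := Nat.pow_le_pow_right (by norm_num) h1
    rwa [one_mul] at h5

theorem log_le {q : ℕ} (_hq : 1 ≤ q) : Nat.log 2 q ≤ q := Nat.log_le_self 2 q

theorem numA {q e m : ℕ} (hq : 3 ≤ q) (he : 513 ≤ e) (hm : e ≤ m) :
    (2 * ((q - 1) * e ^ 2 * e ^ (2 * om e + 1) * Nat.log 2 q)) ^ 4 ≤ q ^ m := by
  have h0 := numA0 he
  have h1 : (q - 1) * e ^ 2 * e ^ (2 * om e + 1) * Nat.log 2 q ≤ q * e ^ 2 * e ^ (2 * om e + 1) * q :=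
    Nat.mul_le_mul (Nat.mul_le_mul_right _ (Nat.mul_le_mul_right _ (Nat.sub_le _ _))) (Nat.log_le_self 2 q)
  calc (2 * ((q - 1) * e ^ 2 * e ^ (2 * om e + 1) * Nat.log 2 q)) ^ 4
      ≤ (2 * (q * e ^ 2 * e ^ (2 * om e + 1) * q)) ^ 4 := Nat.pow_le_pow_left (Nat.mul_le_mul_left _ h1) 4
    _ = 16 * (q ^ 8 * e ^ (8 * om e + 12)) := by ring
    _ ≤ q ^ 3 * (q ^ 8 * q ^ (e - 11)) := by
        refine Nat.mul_le_mul ?_ (Nat.mul_le_mul_left _ (h0.trans (Nat.pow_le_pow_left hq _)))
        calc 16 ≤ 3 ^ 3 := by norm_num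
          _ ≤ q ^ 3 := Nat.pow_le_pow_left hq 3
    _ = q ^ e := by
        rw [← pow_add, ← pow_add]
        congr 1
        omega
    _ ≤ q ^ m := Nat.pow_le_pow_right (by omega) hm

/-- from the reduced inequality to the orbit count -/
theorem numB_of {q e m X : ℕ} (hq : 3 ≤ q) (he : 3 ≤ e) (hX : 4 * X ≤ q ^ (e - 2)) (hm : e ≤ m) :
    4 * ((q - 1) * X * Nat.log 2 q) < q ^ m - 1 := by
  have h1 : 4 * ((q - 1) * X * Nat.log 2 q) ≤ (q - 1) * q ^ (e - 1) := by
    calc 4 * ((q - 1) * X * Nat.log 2 q) ≤ 4 * ((q - 1) * X * q) :=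
          Nat.mul_le_mul_left _ (Nat.mul_le_mul_left _ (Nat.log_le_self 2 q))
      _ = (q - 1) * ((4 * X) * q) := by ring
      _ ≤ (q - 1) * (q ^ (e - 2) * q) := Nat.mul_le_mul_left _ (Nat.mul_le_mul_right _ hX)
      _ = (q - 1) * q ^ (e - 1) := by
          rw [← pow_succ]
          congr 2
          omega
  have h2 : (q - 1) * q ^ (e - 1) + q ^ (e - 1) = q ^ e := by
    have h3 : q ^ e = q * q ^ (e - 1) := by
      rw [← pow_succ']
      congr 1
      omega
    rw [h3]
    obtain ⟨r, rfl⟩ : ∃ r, q = r + 1 := ⟨q - 1, by omega⟩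
    rw [Nat.add_sub_cancel]
    ring
  have h3 : 3 ^ 2 ≤ q ^ (e - 1) :=
    (Nat.pow_le_pow_left hq 2).trans (Nat.pow_le_pow_right (by omega) (by omega))
  have h4 : q ^ e ≤ q ^ m := Nat.pow_le_pow_right (by omega) hm
  omega

theorem odd_om {e : ℕ} (he : e ≠ 0) (h : ¬ 2 ∣ e) : 3 ^ om e ≤ e := by
  refine pow_om_le he fun r hr hre => ?_
  have h1 := hr.two_le
  have h2 : r ≠ 2 := by
    rintro rfl
    exact h hre
  omega

theorem numB1 {q e : ℕ} (hr : ∀ r, r.Prime → r ∣ e → r ∣ q - 1) (hq : 2 ≤ q) (he : 17 ≤ e) (he2 : e ≤ 512)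
    (h32 : e ≠ 32) : 3 ≤ q ∧ 4 * (e ^ (2 * om e + 3)) ≤ q ^ (e - 2) := by
  obtain ⟨r₀, hr₀, hr₀e⟩ := Nat.exists_prime_and_dvd (show e ≠ 1 by omega)
  have h1 := Nat.le_of_dvd (by omega) (hr r₀ hr₀ hr₀e)
  have h2 := hr₀.two_le
  have hq3 : 3 ≤ q := by omega
  refine ⟨hq3, ?_⟩
  by_cases h2e : 2 ∣ e
  · by_cases hodd : ∃ r, r.Prime ∧ r ∣ e ∧ r ≠ 2
    · -- even, not a power of two
      obtain ⟨r, hrp, hre, hr2⟩ := hodd
      have h3 : 2 * r ∣ q - 1 := by
        refine Nat.Coprime.mul_dvd_of_dvd_of_dvd ?_ (hr 2 Nat.prime_two h2e) (hr r hrp hre)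
        exact (Nat.coprime_primes Nat.prime_two hrp).2 (Ne.symm hr2)
      have h4 := Nat.le_of_dvd (by omega) h3
      have h5 := hrp.two_le
      have hq7 : 7 ≤ q := by omega
      -- the number of prime factors
      have hom : 1 ≤ om e ∧ 3 * 2 ^ (om e - 1) ≤ e := by
        obtain ⟨k, rfl⟩ := hre
        have hk : k ≠ 0 := by rintro rfl; omega
        have h6 : om (r * k) = om k + 1 := by rw [om_mul hrp.ne_zero hk, om_prime hrp, add_comm]
        have h7 := two_pow_om_le hk
        refine ⟨by omega, ?_⟩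
        rw [h6, Nat.add_sub_cancel]
        exact Nat.mul_le_mul (by omega) h7
      obtain ⟨ho1, ho2⟩ := hom
      have ho3 : om e ≤ 8 := by
        by_contra hlt
        push Not at hlt
        have : 2 ^ 8 ≤ 2 ^ (om e - 1) := Nat.pow_le_pow_right (by norm_num) (by omega)
        omega
      have he18 : 18 ≤ e := by omega
      have fin : ∀ c e₀, c ≤ 8 → om e = c → e₀ ≤ e → 2 * c + 3 ≤ e₀ → 4 * e₀ ^ (2 * c + 3) ≤ 7 ^ (e₀ - 2) →
          4 * e ^ (2 * om e + 3) ≤ q ^ (e - 2) := by
        intro c e₀ _ hc h7 h8 h9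
        rw [hc]
        exact (growth (b := 7) (by norm_num) h8 (by omega) h9 h7).trans (Nat.pow_le_pow_left hq7 _)
      obtain hc | hc | hc | hc | hc | hc | hc | hc : om e = 1 ∨ om e = 2 ∨ om e = 3 ∨ om e = 4 ∨ om e = 5 ∨ om e = 6 ∨
        om e = 7 ∨ om e = 8 := by omega
      · exact fin 1 18 (by norm_num) hc he18 (by norm_num) (by norm_num)
      · exact fin 2 18 (by norm_num) hc he18 (by norm_num) (by norm_num)
      · exact fin 3 18 (by norm_num) hc he18 (by norm_num) (by norm_num)
      · rw [hc] at ho2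
        exact fin 4 24 (by norm_num) hc (by omega) (by norm_num) (by norm_num)
      · rw [hc] at ho2
        exact fin 5 48 (by norm_num) hc (by omega) (by norm_num) (by norm_num)
      · rw [hc] at ho2
        exact fin 6 96 (by norm_num) hc (by omega) (by norm_num) (by norm_num)
      · rw [hc] at ho2
        exact fin 7 192 (by norm_num) hc (by omega) (by norm_num) (by norm_num)
      · rw [hc] at ho2
        exact fin 8 384 (by norm_num) hc (by omega) (by norm_num) (by norm_num)
    · -- a power of two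
      have h3 : e = 2 ^ om e := by
        have h4 : ∀ x ∈ e.primeFactorsList, x = 2 := by
          intro x hx
          by_contra hne
          exact hodd ⟨x, Nat.prime_of_mem_primeFactorsList hx, Nat.dvd_of_mem_primeFactorsList hx, hne⟩
        have h5 := Nat.prod_primeFactorsList (show e ≠ 0 by omega)
        rw [List.eq_replicate_of_mem h4, List.prod_replicate] at h5
        exact h5.symm
      have h4 : om e ≤ 9 := by
        by_contra hlt
        push Not at hlt
        have : 2 ^ 10 ≤ 2 ^ om e := Nat.pow_le_pow_right (by norm_num) hlt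
        omega
      have h5 : 5 ≤ om e := by
        by_contra hlt
        push Not at hlt
        have : 2 ^ om e ≤ 2 ^ 4 := Nat.pow_le_pow_right (by norm_num) (by omega)
        omega
      have h6 : om e ≠ 5 := by
        intro h
        rw [h] at h3
        exact h32 h3
      have fin : 4 * e ^ (2 * om e + 3) ≤ 3 ^ (e - 2) := by
        obtain hc | hc | hc | hc : om e = 6 ∨ om e = 7 ∨ om e = 8 ∨ om e = 9 := by omega
        all_goals
          rw [hc] at h3 ⊢
          subst h3
          norm_num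
      exact fin.trans (Nat.pow_le_pow_left hq3 _)
  · -- odd
    have hr2 : r₀ ≠ 2 := by
      rintro rfl
      exact h2e hr₀e
    have hq4 : 4 ≤ q := by omega
    have ho := odd_om (show e ≠ 0 by omega) h2e
    have ho5 : om e ≤ 5 := by
      by_contra hlt
      push Not at hlt
      have : 3 ^ 6 ≤ 3 ^ om e := Nat.pow_le_pow_right (by norm_num) hlt
      omega
    by_cases h17 : e = 17
    · subst h17
      have h3 : om 17 = 1 := om_prime (by norm_num)
      rw [h3]
      calc 4 * 17 ^ (2 * 1 + 3) ≤ 4 ^ (17 - 2) := by norm_num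
        _ ≤ q ^ (17 - 2) := Nat.pow_le_pow_left hq4 _
    have he19 : 19 ≤ e := by omega
    have fin : ∀ c e₀, c ≤ 8 → om e = c → e₀ ≤ e → 2 * c + 3 ≤ e₀ → 4 * e₀ ^ (2 * c + 3) ≤ 4 ^ (e₀ - 2) →
        4 * e ^ (2 * om e + 3) ≤ q ^ (e - 2) := by
      intro c e₀ _ hc h7 h8 h9
      rw [hc]
      exact (growth (b := 4) (by norm_num) h8 (by omega) h9 h7).trans (Nat.pow_le_pow_left hq4 _)
    obtain hc | hc | hc | hc | hc | hc : om e = 0 ∨ om e = 1 ∨ om e = 2 ∨ om e = 3 ∨ om e = 4 ∨ om e = 5 := by omega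
    · exact fin 0 19 (by norm_num) hc he19 (by norm_num) (by norm_num)
    · exact fin 1 19 (by norm_num) hc he19 (by norm_num) (by norm_num)
    · exact fin 2 19 (by norm_num) hc he19 (by norm_num) (by norm_num)
    · rw [hc] at ho
      exact fin 3 27 (by norm_num) hc (by omega) (by norm_num) (by norm_num)
    · rw [hc] at ho
      exact fin 4 81 (by norm_num) hc (by omega) (by norm_num) (by norm_num)
    · rw [hc] at ho
      exact fin 5 243 (by norm_num) hc (by omega) (by norm_num) (by norm_num)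

theorem numB {q e m : ℕ} (hr : ∀ r, r.Prime → r ∣ e → r ∣ q - 1) (hq : 2 ≤ q) (he : 17 ≤ e) (he2 : e ≤ 512)
    (h32 : e ≠ 32) (hm : e ≤ m) :
    4 * ((q - 1) * e ^ 2 * e ^ (2 * om e + 1) * Nat.log 2 q) < q ^ m - 1 := by
  obtain ⟨h1, h2⟩ := numB1 hr hq he he2 h32
  have h3 := numB_of h1 (by omega) h2 hm
  have h4 : (q - 1) * e ^ 2 * e ^ (2 * om e + 1) = (q - 1) * e ^ (2 * om e + 3) := by ring
  rw [h4]
  exact h3

end Cfsg.Agent.H511.Wt
end

-- part: H511/Wt/MinMod
section
/-!
# Chief factors as modules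
-/

set_option autoImplicit false
set_option linter.style.haveILetI false
set_option linter.unusedSectionVars false

namespace Cfsg.Agent.H511.Wt

open Subgroup
open scoped Pointwise commutatorElement

universe u

theorem exists_mod0 {G : Type u} [Group G] [Finite G] (M : Subgroup G)
    [hMn : M.Normal] (hM : M ≠ ⊥) (hmin : ∀ N : Subgroup G, N.Normal → N ≤ M → N = ⊥ ∨ N = M)
    (hcomm : ∀ a ∈ M, ∀ b ∈ M, a * b = b * a) :
    ∃ (X : Type u) (_ : AddCommGroup X) (_ : Finite X) (_ : DistribMulAction G X), Irr G X ∧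
      Nat.card X = Nat.card M ∧ ∀ g : G, (∀ x : X, g • x = x) ↔ g ∈ centralizer (M : Set G) := by
  letI i1 := addOf M hcomm
  letI i2 := actOf M hcomm
  haveI : Finite (Additive M) := inferInstanceAs (Finite M)
  have hirr : Irr G (Additive M) := by
    refine ⟨?_, ?_⟩
    · have : Nontrivial M := (nontrivial_iff_ne_bot M).2 hM
      exact inferInstanceAs (Nontrivial M)
    · intro W hW
      -- the corresponding subgroup
      let N : Subgroup G :=
        { carrier := {x | ∃ h : x ∈ M, (Additive.ofMul (⟨x, h⟩ : M)) ∈ W}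
          mul_mem' := by
            rintro x y ⟨hx, hx'⟩ ⟨hy, hy'⟩
            exact ⟨M.mul_mem hx hy, W.add_mem hx' hy'⟩
          one_mem' := ⟨M.one_mem, W.zero_mem⟩
          inv_mem' := by
            rintro x ⟨hx, hx'⟩
            exact ⟨M.inv_mem hx, W.neg_mem hx'⟩ }
      have hN : N.Normal := by
        refine ⟨?_⟩
        rintro x ⟨hx, hx'⟩ g
        exact ⟨hMn.conj_mem x hx g, hW g _ hx'⟩
      have hNM : N ≤ M := fun x hx => hx.1
      rcases hmin N hN hNM with h | h
      · left
        rw [eq_bot_iff]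
        intro x hx
        have h1 : ((Additive.toMul x : M) : G) ∈ N := ⟨(Additive.toMul x).2, hx⟩
        rw [h, mem_bot] at h1
        rw [AddSubgroup.mem_bot]
        exact Additive.toMul.injective (Subtype.ext h1)
      · right
        rw [eq_top_iff]
        intro x _
        have h1 : ((Additive.toMul x : M) : G) ∈ N := by rw [h]; exact (Additive.toMul x).2
        exact h1.2
  refine ⟨Additive M, i1, inferInstance, i2, hirr, rfl, ?_⟩
  intro g
  rw [mem_centralizer_iff]
  constructor
  · intro h x hx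
    have h2 := h (Additive.ofMul ⟨x, hx⟩)
    have h3 : g * x * g⁻¹ = x := congrArg (fun y : Additive M => ((Additive.toMul y : M) : G)) h2
    calc x * g = (g * x * g⁻¹) * g := by rw [h3]
      _ = g * x := by group
  · intro h x
    apply Additive.toMul.injective
    apply Subtype.ext
    change g * ((Additive.toMul x : M) : G) * g⁻¹ = ((Additive.toMul x : M) : G)
    rw [← h _ (Additive.toMul x).2]
    group

/-- relative version -/
theorem exists_mod {G : Type u} [Group G] [Finite G] (C T : Subgroup G)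
    [C.Normal] [T.Normal] (hCT : C < T) (hmin : ∀ N : Subgroup G, N.Normal → C < N → N ≤ T → N = T)
    (hcomm : ⁅T, T⁆ ≤ C) :
    ∃ (X : Type u) (_ : AddCommGroup X) (_ : Finite X) (_ : DistribMulAction G X), Irr G X ∧
      Nat.card X = C.relIndex T ∧ ∀ g : G, (∀ x : X, g • x = x) ↔ g ∈ cenMod C T := by
  set π := QuotientGroup.mk' C with hπ
  have hπs : Function.Surjective π := QuotientGroup.mk'_surjective C
  have hn1 : (T.map π).Normal := Normal.map inferInstance π hπs
  obtain ⟨X, i1, i2, i3, hirr, hcard, hX⟩ := exists_mod0 (T.map π) (by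
    rw [Ne, Subgroup.map_eq_bot_iff, QuotientGroup.ker_mk']
    exact hCT.not_ge) (by
    intro N hN hNT
    by_cases h : C = N.comap π
    · left
      have h2 : N = (N.comap π).map π := (map_comap_eq_self_of_surjective hπs N).symm
      rw [h2, ← h, Subgroup.map_eq_bot_iff, QuotientGroup.ker_mk']
    · right
      have h2 : C ≤ N.comap π := by
        intro c hc
        rw [mem_comap, (show π c = 1 from (QuotientGroup.eq_one_iff c).2 hc)]
        exact N.one_mem
      have h3 : N.comap π ≤ T := by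
        have h4 : (T.map π).comap π = T := by
          rw [comap_map_eq, QuotientGroup.ker_mk', sup_eq_left.2 hCT.le]
        rw [← h4]
        exact comap_mono hNT
      have h4 := hmin _ inferInstance (lt_of_le_of_ne h2 h) h3
      rw [← h4, map_comap_eq_self_of_surjective hπs]) (by
    rintro _ ⟨a, ha, rfl⟩ _ ⟨b, hb', rfl⟩
    have h2 : π ⁅a, b⁆ = 1 := (QuotientGroup.eq_one_iff _).2 (hcomm (commutator_mem_commutator ha hb'))
    rwa [map_commutatorElement, commutatorElement_eq_one_iff_mul_comm] at h2)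
  letI := DistribMulAction.compHom X π
  refine ⟨X, i1, i2, inferInstance, ⟨hirr.nt, fun U hU => hirr.irr U ?_⟩, ?_, ?_⟩
  · intro g x hx
    obtain ⟨g, rfl⟩ := hπs g
    exact hU g x hx
  · rw [hcard, ← relIndex_ker, QuotientGroup.ker_mk']
  · intro g
    rw [cenMod, mem_comap, ← hX (π g)]
    exact Iff.rfl

theorem DL.iff_le {G X : Type*} [Group G] [AddCommGroup X] [DistribMulAction G X] {C : Subgroup G}
    (hX : ∀ g : G, (∀ x : X, g • x = x) ↔ g ∈ C) {d : ℕ} : DL G X d ↔ dser (⊤ : Subgroup G) d ≤ C := by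
  constructor
  · intro h g hg
    exact (hX g).1 (h g hg)
  · intro h g hg
    exact (hX g).2 (h hg)

theorem card_im {G X : Type*} [Group G] [AddCommGroup X] [DistribMulAction G X] {C : Subgroup G}
    (hX : ∀ g : G, (∀ x : X, g • x = x) ↔ g ∈ C) : Nat.card (Im G X) = C.index := by
  have h1 : (MulAction.toPermHom G X).ker = C := by
    ext g
    rw [MonoidHom.mem_ker, ← hX]
    constructor
    · intro h x
      exact congrArg (fun e : Equiv.Perm X => e x) h
    · intro h
      exact Equiv.ext h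
  rw [← h1, index_ker]

namespace QP

variable {K V : Type*} {G : Type u} [Field K] [Finite K] [AddCommGroup V] [Module K V] [Finite V] [Nontrivial V]
    [Group G] [Finite G] [DistribMulAction G V] (S : QP K V G)

theorem mn_mod [Group.IsSolvable G] {N : Subgroup G} (hN : N ∈ S.Mn) :
    ∃ (X : Type u) (_ : AddCommGroup X) (_ : Finite X) (_ : DistribMulAction G X), Irr G X ∧
      Nat.card X = S.U.relIndex N ∧ ∀ g : G, (∀ x : X, g • x = x) ↔ g ∈ cenMod S.U N := by
  have := hN.1
  exact exists_mod S.U N hN.2.1 (fun N' h2 h3 h4 => hN.2.2.2 N' h2 h3 h4) (S.mn_comm hN)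

/-- the primes dividing `|A/E|` if `|E/U| = 9` -/
theorem prime_le_three [Group.IsSolvable G] (hs : S.s = 9) {r : ℕ} (hr : r.Prime) (hd : r ∣ S.E.relIndex S.A) :
    r ≤ 3 := by
  classical
  by_contra hlt
  push Not at hlt
  haveI : Fact r.Prime := ⟨hr⟩
  set π := QuotientGroup.mk' S.U with hπ
  have hπs : Function.Surjective π := QuotientGroup.mk'_surjective S.U
  haveI hn1 : (S.E.map π).Normal := Normal.map inferInstance π hπs
  let ψ : S.A →* MulAut (S.E.map π) := ((MulAut.conjNormal (H := S.E.map π)).comp π).comp S.A.subtype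
  have hker : ψ.ker = S.E.subgroupOf S.A := by
    ext a
    rw [MonoidHom.mem_ker, mem_subgroupOf]
    constructor
    · intro h
      rw [← S.cenMod_E_inf_A]
      refine ⟨?_, a.2⟩
      change (a : G) ∈ cenMod S.U S.E
      rw [mem_cenMod]
      intro y hy
      have h1 := congrArg (fun f : MulAut (S.E.map π) => ((f ⟨π y, y, hy, rfl⟩ : S.E.map π) : G ⧸ S.U)) h
      have h2 : π a * π y * (π a)⁻¹ = π y := h1
      rw [← QuotientGroup.eq_one_iff]
      change π ⁅(a : G), y⁆ = 1
      rw [map_commutatorElement, commutatorElement_def, h2, mul_inv_cancel]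
    · intro h
      apply MulEquiv.ext
      rintro ⟨_, y, hy, rfl⟩
      apply Subtype.ext
      change π a * π y * (π a)⁻¹ = π y
      have h1 : ⁅(a : G), y⁆ ∈ S.U := S.E_comm (commutator_mem_commutator h hy)
      rw [← QuotientGroup.eq_one_iff] at h1
      change π ⁅(a : G), y⁆ = 1 at h1
      rw [map_commutatorElement, commutatorElement_eq_one_iff_mul_comm] at h1
      rw [h1, mul_inv_cancel_right]
  have hcard : Nat.card ψ.range = S.E.relIndex S.A := by
    rw [← index_ker, hker]
    rfl
  have hcE : Nat.card (S.E.map π) = 9 := by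
    have h1 := relIndex_ker (K := S.E) π
    rw [hπ, QuotientGroup.ker_mk'] at h1
    rw [← hs, s, h1]
  rw [← hcard] at hd
  obtain ⟨⟨p', hp'⟩, hp⟩ := exists_prime_orderOf_dvd_card' r hd
  have hpo : orderOf p' = r := by
    rw [← hp]
    exact Subgroup.orderOf_coe ⟨p', hp'⟩
  have hpg : IsPGroup r (zpowers p') := by
    refine IsPGroup.of_card (n := 1) ?_
    rw [Nat.card_zpowers, hpo, pow_one]
  have hfin : Finite (S.E.map π) := Nat.finite_of_card_ne_zero (by rw [hcE]; norm_num)
  have hmod := hpg.card_modEq_card_fixedPoints (S.E.map π)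
  -- the fixed points form a subgroup
  let F : Subgroup (S.E.map π) :=
    { carrier := {x | p' x = x}
      mul_mem' := fun {a b} ha hb => by
        change p' (a * b) = a * b
        rw [map_mul, show p' a = a from ha, show p' b = b from hb]
      one_mem' := map_one p'
      inv_mem' := fun {a} ha => by
        change p' a⁻¹ = a⁻¹
        rw [map_inv, show p' a = a from ha] }
  have hF : Nat.card (MulAction.fixedPoints (zpowers p') (S.E.map π)) = Nat.card F := by
    refine Nat.card_congr (Equiv.setCongr ?_)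
    ext x
    rw [MulAction.mem_fixedPoints]
    constructor
    · intro h
      exact h ⟨p', mem_zpowers p'⟩
    · rintro h ⟨_, k, rfl⟩
      have h1 : p' ∈ MulAction.stabilizer (MulAut (S.E.map π)) x := h
      exact (MulAction.stabilizer (MulAut (S.E.map π)) x).zpow_mem h1 k
  rw [hF, hcE] at hmod
  have hdv : Nat.card F ∣ 9 := by
    rw [← hcE]
    exact card_subgroup_dvd_card F
  have hle : Nat.card F ≤ 9 := Nat.le_of_dvd (by norm_num) hdv
  have hdiv : (r : ℤ) ∣ 9 - Nat.card F := by
    have := (Nat.modEq_iff_dvd.1 hmod.symm)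
    exact_mod_cast this
  have h9 : Nat.card F = 9 := by
    by_contra hne
    have h1 : Nat.card F = 1 ∨ Nat.card F = 3 := by
      interval_cases (Nat.card F) <;> simp_all
    have h2 : r ∣ 9 - Nat.card F := by
      have h3 : ((9 - Nat.card F : ℕ) : ℤ) = 9 - (Nat.card F : ℤ) := by
        push_cast [Nat.cast_sub hle]
        ring
      rw [← h3] at hdiv
      exact_mod_cast hdiv
    have h3 : r ∣ 2 ^ 3 ∨ r ∣ 2 * 3 := by
      rcases h1 with h1 | h1
      · left
        rw [h1] at h2
        exact h2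
      · right
        rw [h1] at h2
        exact h2
    have h4 : r ≤ 3 := by
      rcases h3 with h3 | h3
      · exact (Nat.le_of_dvd (by norm_num) (hr.dvd_of_dvd_pow h3)).trans (by norm_num)
      · rcases (Nat.Prime.dvd_mul hr).1 h3 with h5 | h5
        · exact (Nat.le_of_dvd (by norm_num) h5).trans (by norm_num)
        · exact Nat.le_of_dvd (by norm_num) h5
    omega
  have htop : F = ⊤ := by
    apply eq_top_of_card_eq
    rw [h9, hcE]
  have h1 : p' = 1 := by
    apply MulEquiv.ext
    intro x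
    have : x ∈ F := by rw [htop]; exact mem_top x
    exact this
  rw [h1, orderOf_one] at hpo
  exact hr.one_lt.ne hpo

end QP

/-- **Irreducible groups on a module of order 64 of large derived length.** -/
theorem im64 {G V : Type u} [Group G] [Finite G] [Group.IsSolvable G] [AddCommGroup V] [Finite V]
    [DistribMulAction G V] (hirr : Irr G V) (hcard : Nat.card V = 64) (h5 : ¬ DL G V 5) :
    Nat.card (Im G V) ≤ 1458 ∧ ∀ r, r.Prime → r ∣ Nat.card (Im G V) → r ≤ 3 := by
  have hnt := hirr.nt
  have hsol : Group.IsSolvable (Im G V) := range_solvable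
  rcases exists_qp (Im G V) V hirr.range range_faithful with h | ⟨K, i1, i2, i3, ⟨S⟩⟩
  · exfalso
    obtain ⟨M, W, hM, h1, h2, h3⟩ := h
    have D : Imp M W := ⟨h1, h2, h3⟩
    letI := resAct M (W ((1 : Im G V) : _ ⧸ M)) D.res_mem
    have h4 := D.irr_res hirr.range
    set w := Nat.card (W ((1 : Im G V) : _ ⧸ M)) with hw
    have hw2 : 2 ≤ w := by
      have := h4.nt
      exact Finite.one_lt_card
    have hcV : w ^ M.index = 64 := by rw [← hcard, D.card_V]
    have h6 : M.index ≠ 0 := index_ne_zero_of_finite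
    have h7 : M.index ≠ 1 := by
      rw [Ne, index_eq_one]
      exact hM.1
    have h9 : M.index < 64 := by
      rw [← hcV]
      exact Nat.lt_pow_self (by omega)
    have h10 : w < 64 := by
      rw [← hcV]
      calc w = w ^ 1 := (pow_one w).symm
        _ < w ^ M.index := Nat.pow_lt_pow_right (by omega) (by omega)
    have h8 : DL (Im G V) V (gB M.index + 1 + gB w) := by
      have h5 := dser_le_core hM (dln.{u} M.index (by omega))
      exact D.dl (dln.{u} w (by omega) M _ h4 rfl) h5
    apply h5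
    apply DL.of_range
    refine h8.mono ?_
    obtain ⟨i, hi, hi2⟩ := pow_eq_prime_pow (w := w) (k := M.index) (a := 6) Nat.prime_two h6 (by rw [hcV]; norm_num)
    have h11 : M.index ≤ 6 := Nat.le_of_dvd (by norm_num) ⟨i, by rw [← hi2, mul_comm]⟩
    rw [hi]
    have h12 : 2 ≤ M.index := by omega
    generalize M.index = k at *
    interval_cases k
    · obtain rfl : i = 3 := by omega
      decide
    · obtain rfl : i = 2 := by omega
      decide
    · omega
    · omega
    · obtain rfl : i = 1 := by omega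
      decide
  · have hs1 : S.s ≠ 1 := by
      intro h
      apply h5
      apply DL.of_range
      have h1 := S.dser_two_of_s_one h
      intro g hg x
      have h2 := dser_anti (⊤ : Subgroup (Im G V)) (show 2 ≤ 5 by norm_num) hg
      rw [h1, mem_bot] at h2
      rw [h2, one_smul]
    have hq : Nat.card K ^ Module.finrank K V = 64 := by rw [← hcard]; exact QP.card_V_eq.symm
    have hm0 : 1 ≤ Module.finrank K V := Module.finrank_pos
    have hprimes : ∀ r, r.Prime → r ∣ S.s → r ∣ Nat.card K - 1 ∧ r ∣ Module.finrank K V := by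
      intro r hr hrs
      obtain ⟨h1, h2⟩ := S.prime_dvd hr hrs
      exact ⟨h1.trans S.card_U_dvd, h2⟩
    obtain ⟨r, hr, hrs⟩ := Nat.exists_prime_and_dvd hs1
    obtain ⟨hr1, hr2⟩ := hprimes r hr hrs
    obtain ⟨i, hi, hi2⟩ := pow_eq_prime_pow (w := Nat.card K) (k := Module.finrank K V) (a := 6) Nat.prime_two
      (by omega) (by rw [hq]; norm_num)
    have h11 : Module.finrank K V ≤ 6 := Nat.le_of_dvd (by norm_num) ⟨i, by rw [← hi2, mul_comm]⟩
    have hmq : Module.finrank K V = 3 ∧ Nat.card K = 4 := by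
      rw [hi] at hr1 ⊢
      generalize Module.finrank K V = m at *
      interval_cases m
      · exact absurd (Nat.dvd_one.1 hr2) hr.one_lt.ne'
      · exfalso
        obtain rfl : i = 3 := by omega
        have := (Nat.prime_dvd_prime_iff_eq hr Nat.prime_two).1 hr2
        subst this
        norm_num at hr1
      · obtain rfl : i = 2 := by omega
        norm_num
      · omega
      · omega
      · exfalso
        obtain rfl : i = 1 := by omega
        norm_num at hr1
        exact hr.one_lt.ne' hr1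
    obtain ⟨hm3, hq4⟩ := hmq
    obtain ⟨e, he⟩ := S.exists_sq
    have hsle := S.s_le'
    rw [hm3] at hsle
    have he3 : e ≤ 3 := by
      by_contra hlt
      push Not at hlt
      have : 4 ^ 2 ≤ e ^ 2 := Nat.pow_le_pow_left hlt 2
      omega
    have hs9 : S.s = 9 := by
      have h0 := S.s_pos
      interval_cases e
      · omega
      · exact absurd he (by simpa using hs1)
      · exfalso
        have h1 := (hprimes 2 Nat.prime_two (by rw [he]; norm_num)).1
        rw [hq4] at h1
        norm_num at h1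
      · exact he
    have hU : Nat.card S.U ∣ 3 := by
      have := S.card_U_dvd
      rwa [hq4] at this
    have hA := S.index_A_le
    rw [hq4] at hA
    have hA2 : S.A.index ≤ 2 := by
      refine hA.trans ?_
      have : Nat.log 2 4 = 2 := by
        rw [Nat.log_eq_iff] <;> norm_num
      omega
    have hrel := S.relIndex_E_A
    rw [hs9, show om 9 = 2 from om_pow (a := 2) Nat.prime_three] at hrel
    have hrel' : S.E.relIndex S.A ≤ 27 := by
      by_contra hlt
      push Not at hlt
      have : 28 ^ 2 ≤ (S.E.relIndex S.A) ^ 2 := Nat.pow_le_pow_left hlt 2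
      omega
    have hcG := S.card_G_eq
    constructor
    · rw [hcG, hs9]
      have h1 : Nat.card S.U ≤ 3 := Nat.le_of_dvd (by norm_num) hU
      calc Nat.card S.U * 9 * S.E.relIndex S.A * S.A.index ≤ 3 * 9 * 27 * 2 :=
            Nat.mul_le_mul (Nat.mul_le_mul (Nat.mul_le_mul_right _ h1) hrel') hA2
        _ = 1458 := by norm_num
    · intro p hp hpd
      rw [hcG, hs9] at hpd
      rcases (Nat.Prime.dvd_mul hp).1 hpd with h | h
      · rcases (Nat.Prime.dvd_mul hp).1 h with h | h
        · rcases (Nat.Prime.dvd_mul hp).1 h with h | h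
          · exact Nat.le_of_dvd (by norm_num) (h.trans hU)
          · have h9 : p ∣ 3 ^ 2 := by simpa using h
            exact Nat.le_of_dvd (by norm_num) (hp.dvd_of_dvd_pow h9)
        · exact S.prime_le_three hs9 hp h
      · have h1 : S.A.index ≠ 0 := index_ne_zero_of_finite
        exact (Nat.le_of_dvd (Nat.pos_of_ne_zero h1) h).trans (hA2.trans (by norm_num))

end Cfsg.Agent.H511.Wt
end
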